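import Cfsg.Agent.Lib.Lead.McL.Real
import Cfsg.Prelude.Def_Spor_Conway

/-!
# The McLaughlin group of the statements is isomorphic to the permutation group on 275 points
-/

set_option autoImplicit false

namespace Cfsg.Agent.McLP

open Cfsg Cfsg.Agent.Lib.Helper6.Leech Cfsg.Agent.Lib.Helper6.Golay Cfsg.Agent.PG

theorem u0_eq_neg : u0 = -Spor.leechV := by
  apply Subtype.ext
  funext k
  show (u0 : GolayPt → ℤ) k = -(Spor.vecV k)
  rw [u0_apply, Spor.vecV]
  split_ifs <;> norm_num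

theorem v0_eq : v0' = Spor.leechU := by
  rw [← x0'_eq]
  apply Subtype.ext
  funext k
  show (x0' : GolayPt → ℤ) k = Spor.vecU k
  rw [x0_apply, Spor.vecU]

theorem mem_McL_iff (σ : Equiv.Perm leechLattice) :
    σ ∈ Spor.McL ↔ ∃ h : σ ∈ Co0, (⟨σ, h⟩ : Co0) ∈ mclRef := by
  constructor
  · rintro ⟨⟨h0, hv⟩, hu⟩
    refine ⟨h0, ?_⟩
    have hv' : σ Spor.leechV = Spor.leechV := hv
    have hu' : σ Spor.leechU = Spor.leechU := hu
    have e1 : (⟨σ, h0⟩ : Co0).1 u0 = u0 := by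
      rw [u0_eq_neg, co0_neg]
      show -(σ Spor.leechV) = _
      rw [hv']
    have e2 : (⟨σ, h0⟩ : Co0).1 v0' = v0' := by
      rw [v0_eq]; exact hu'
    exact ⟨e1, e2⟩
  · rintro ⟨h0, h⟩
    have e1 : (⟨σ, h0⟩ : Co0).1 u0 = u0 := h.1
    have e2 : (⟨σ, h0⟩ : Co0).1 v0' = v0' := h.2
    have hv : σ Spor.leechV = Spor.leechV := by
      have : Spor.leechV = -u0 := by rw [u0_eq_neg, neg_neg]
      rw [this]
      have := co0_neg ⟨σ, h0⟩ u0
      rw [e1] at this
      exact this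
    have hu : σ Spor.leechU = Spor.leechU := by
      rw [← v0_eq]; exact e2
    exact ⟨⟨h0, hv⟩, hu⟩

/-- the group of the statements is the reference stabiliser -/
noncomputable def sporEquiv : ↥Spor.McL ≃* ↥mclRef where
  toFun σ := ⟨⟨σ.1, ((mem_McL_iff σ.1).1 σ.2).choose⟩, ((mem_McL_iff σ.1).1 σ.2).choose_spec⟩
  invFun g := ⟨g.1.1, (mem_McL_iff g.1.1).2 ⟨g.1.2, g.2⟩⟩
  left_inv _ := rfl
  right_inv _ := rfl
  map_mul' _ _ := rfl

/-- **The McLaughlin group is isomorphic to the permutation group `P` on 275 points.** -/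
noncomputable def mclEquiv : ↥Spor.McL ≃* ↥P := sporEquiv.trans mclRefEquiv

end Cfsg.Agent.McLP
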