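import Cfsg.Agent.Lib.Lead.McL.Forest

/-! # The involutions of the McLaughlin group: the checks for part 17 of the search trees (generated) -/

set_option autoImplicit false
set_option maxRecDepth 100000

namespace Cfsg.Agent.McLP

open Cfsg.Agent.J3O

theorem chk_conj_17 : CT.all pcj T17 = true := by decide +kernel

theorem chk_c1_17 : (CT.filterL cond1 T17).length = 696 := by decide +kernel

theorem chk_c2_17 : (CT.filterL cond2 T17).length = 259 := by decide +kernel

theorem chk_c3_17 : (CT.filterL cond3 T17).length = 0 := by decide +kernel

end Cfsg.Agent.McLP
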