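import Cfsg.Agent.Lib.Lead.McL.OutChk
import Cfsg.Agent.Lib.Lead.McL.ChkT0
import Cfsg.Agent.Lib.Lead.McL.ChkT1
import Cfsg.Agent.Lib.Lead.McL.ChkT2
import Cfsg.Agent.Lib.Lead.McL.ChkT3
import Cfsg.Agent.Lib.Lead.McL.ChkT4
import Cfsg.Agent.Lib.Lead.McL.ChkT5
import Cfsg.Agent.Lib.Lead.McL.ChkT6
import Cfsg.Agent.Lib.Lead.McL.ChkT7
import Cfsg.Agent.Lib.Lead.McL.ChkT8
import Cfsg.Agent.Lib.Lead.McL.ChkT9
import Cfsg.Agent.Lib.Lead.McL.ChkT10
import Cfsg.Agent.Lib.Lead.McL.ChkT11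
import Cfsg.Agent.Lib.Lead.McL.ChkT12
import Cfsg.Agent.Lib.Lead.McL.ChkT13
import Cfsg.Agent.Lib.Lead.McL.ChkT14
import Cfsg.Agent.Lib.Lead.McL.ChkT15
import Cfsg.Agent.Lib.Lead.McL.ChkT16
import Cfsg.Agent.Lib.Lead.McL.ChkT17
import Cfsg.Agent.Lib.Lead.McL.ChkT18
import Cfsg.Agent.Lib.Lead.McL.ChkT19
import Cfsg.Agent.Lib.Lead.McL.ChkT20
import Cfsg.Agent.Lib.Lead.McL.ChkT21
import Cfsg.Agent.Lib.Lead.McL.ChkT22
import Cfsg.Agent.Lib.Lead.McL.ChkT23
import Cfsg.Agent.Lib.Lead.McL.ChkT24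
import Cfsg.Agent.Lib.Lead.McL.ChkT25
import Cfsg.Agent.Lib.Lead.McL.ChkT26
import Cfsg.Agent.Lib.Lead.McL.ChkT27
import Cfsg.Agent.Lib.Lead.McL.ChkT28
import Cfsg.Agent.Lib.Lead.McL.ChkT29
import Cfsg.Agent.Lib.Lead.McL.ChkT30
import Cfsg.Agent.Lib.Lead.McL.ChkT31
import Cfsg.Agent.Lib.Lead.McL.Iso

/-!
# The outer automorphism group of the McLaughlin group has order 2
-/

set_option autoImplicit false

namespace Cfsg.Agent.McLP

open Cfsg Cfsg.Agent.J3O Cfsg.Agent.PG Cfsg.Agent.Lib.Helper6.Leech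

/-! ### the assembled checks on the trees -/

theorem chk_all : allFL mclForest pcj = true := by
  rw [allFL, mclForest]
  simp only [List.all_cons, List.all_nil, Bool.and_true, chk_conj_0, chk_conj_1, chk_conj_2, chk_conj_3, chk_conj_4, chk_conj_5, chk_conj_6, chk_conj_7, chk_conj_8, chk_conj_9, chk_conj_10, chk_conj_11, chk_conj_12, chk_conj_13, chk_conj_14, chk_conj_15, chk_conj_16, chk_conj_17, chk_conj_18, chk_conj_19, chk_conj_20, chk_conj_21, chk_conj_22, chk_conj_23, chk_conj_24, chk_conj_25, chk_conj_26, chk_conj_27, chk_conj_28, chk_conj_29, chk_conj_30, chk_conj_31]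

theorem all_imp {p q : ℕ → Bool} (hpq : ∀ c, p c = true → q c = true) :
    ∀ {T : CT}, CT.all p T = true → CT.all q T = true
  | CT.L, _ => rfl
  | CT.N l v r, h => by
    rw [CT.all, Bool.and_eq_true, Bool.and_eq_true] at h ⊢
    exact ⟨⟨hpq v h.1.1, all_imp hpq h.1.2⟩, all_imp hpq h.2⟩

theorem chk_all' : allFL mclForest (pconjT 275 ca cai cb cbi mclForest) = true := by
  have h := chk_all
  rw [allFL, List.all_eq_true] at h ⊢
  intro bt hbt
  refine all_imp ?_ (h bt hbt)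
  intro c hc
  rw [pcj, Bool.and_eq_true] at hc
  exact hc.1

theorem chk_n1 : (filterFL mclForest cond1).length ≤ 22275 := by
  rw [length_filterFL, mclForest]
  simp only [List.map_cons, List.map_nil, List.sum_cons, List.sum_nil, chk_c1_0, chk_c1_1, chk_c1_2, chk_c1_3, chk_c1_4, chk_c1_5, chk_c1_6, chk_c1_7, chk_c1_8, chk_c1_9, chk_c1_10, chk_c1_11, chk_c1_12, chk_c1_13, chk_c1_14, chk_c1_15, chk_c1_16, chk_c1_17, chk_c1_18, chk_c1_19, chk_c1_20, chk_c1_21, chk_c1_22, chk_c1_23, chk_c1_24, chk_c1_25, chk_c1_26, chk_c1_27, chk_c1_28, chk_c1_29, chk_c1_30, chk_c1_31]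
  norm_num

theorem chk_n2 : (filterFL mclForest cond2).length ≤ 8064 := by
  rw [length_filterFL, mclForest]
  simp only [List.map_cons, List.map_nil, List.sum_cons, List.sum_nil, chk_c2_0, chk_c2_1, chk_c2_2, chk_c2_3, chk_c2_4, chk_c2_5, chk_c2_6, chk_c2_7, chk_c2_8, chk_c2_9, chk_c2_10, chk_c2_11, chk_c2_12, chk_c2_13, chk_c2_14, chk_c2_15, chk_c2_16, chk_c2_17, chk_c2_18, chk_c2_19, chk_c2_20, chk_c2_21, chk_c2_22, chk_c2_23, chk_c2_24, chk_c2_25, chk_c2_26, chk_c2_27, chk_c2_28, chk_c2_29, chk_c2_30, chk_c2_31]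
  norm_num

theorem chk_n3 : (filterFL mclForest cond3).length ≤ 10 := by
  rw [length_filterFL, mclForest]
  simp only [List.map_cons, List.map_nil, List.sum_cons, List.sum_nil, chk_c3_0, chk_c3_1, chk_c3_2, chk_c3_3, chk_c3_4, chk_c3_5, chk_c3_6, chk_c3_7, chk_c3_8, chk_c3_9, chk_c3_10, chk_c3_11, chk_c3_12, chk_c3_13, chk_c3_14, chk_c3_15, chk_c3_16, chk_c3_17, chk_c3_18, chk_c3_19, chk_c3_20, chk_c3_21, chk_c3_22, chk_c3_23, chk_c3_24, chk_c3_25, chk_c3_26, chk_c3_27, chk_c3_28, chk_c3_29, chk_c3_30, chk_c3_31]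
  norm_num

/-! ### the group and its generators -/

instance : Finite ↥P := Nat.finite_of_card_ne_zero (by rw [card_P]; norm_num)

/-- the first generator, in the group -/
noncomputable def aP : ↥P := ⟨gA, gA_mem⟩
/-- the second generator, in the group -/
noncomputable def bP : ↥P := ⟨gB, gB_mem⟩

theorem closure_ab : Subgroup.closure {aP, bP} = (⊤ : Subgroup ↥P) := by
  have h := Subgroup.closure_closure_coe_preimage (k := ({gA, gB} : Set (Equiv.Perm (Fin 275))))
  have hset : ((↑) : ↥P → Equiv.Perm (Fin 275)) ⁻¹' ({gA, gB} : Set (Equiv.Perm (Fin 275))) = {aP, bP} := by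
    ext x
    simp only [Set.mem_preimage, Set.mem_insert_iff, Set.mem_singleton_iff, Subtype.ext_iff]
    rfl
  rw [← hset]
  exact h

theorem enc_a : enc 275 aP.1 = ca := enc_gA
theorem enc_ai : enc 275 (aP⁻¹).1 = cai := enc_gAi
theorem enc_b : enc 275 bP.1 = cb := enc_gB
theorem enc_bi : enc 275 (bP⁻¹).1 = cbi := enc_gBi

/-- the base registers -/
noncomputable def baseR : List ↥P := [bP⁻¹, bP, aP⁻¹, aP]

theorem baseR_ok : RegsOK P baseR [cbi, cb, cai, ca] :=
  List.Forall₂.cons enc_bi (List.Forall₂.cons enc_b (List.Forall₂.cons enc_ai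
    (List.Forall₂.cons enc_a List.Forall₂.nil)))

/-- the element of a register of a program from the base registers -/
noncomputable def reg (prog : List (ℕ × ℕ)) (i : ℕ) : ↥P := (runM prog baseR).getD i 1

theorem enc_reg (prog : List (ℕ × ℕ)) (i : ℕ) :
    enc 275 (reg prog i).1 = (run 275 prog [cbi, cb, cai, ca]).getD i (pone 275) :=
  (baseR_ok.run n_le (is := prog)).getD i

/-- the three involutions -/
noncomputable def z1 : ↥P := reg slpZ (idxZ.getD 0 0)
noncomputable def z2 : ↥P := reg slpZ (idxZ.getD 1 0)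
noncomputable def z3 : ↥P := reg slpZ (idxZ.getD 2 0)

theorem enc_zs : enc 275 z1.1 = cz ∧ enc 275 z2.1 = c2 ∧ enc 275 z3.1 = c3 := by
  have h := chk_zs
  rw [runK_eq] at h
  have e : idxZ = [idxZ.getD 0 0, idxZ.getD 1 0, idxZ.getD 2 0] := by decide
  rw [e, List.map_cons, List.map_cons, List.map_cons, List.map_nil] at h
  simp only [List.cons.injEq, and_true] at h
  exact ⟨(enc_reg _ _).trans h.1, (enc_reg _ _).trans h.2.1, (enc_reg _ _).trans h.2.2⟩

theorem sq_of_code {x : ↥P} {c : ℕ} (hx : enc 275 x.1 = c) (hc : pmul 275 c c = pone 275) : x ^ 2 = 1 := by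
  rw [pow_two]
  apply (enc_eq_pone_iff n_le (x * x)).1
  rw [Subgroup.coe_mul, ← pmul_enc n_le, hx, hc]

theorem ne_one_of_code {x : ↥P} {c : ℕ} (hx : enc 275 x.1 = c) (hc : c ≠ pone 275) : x ≠ 1 := by
  rintro rfl
  apply hc
  rw [← hx]
  exact (enc_eq_pone_iff n_le (1 : ↥P)).2 rfl

/-! ### the Sylow 2-subgroup -/

theorem regs_mem {gs : List ↥P} {cs : List ℕ} (h : RegsOK P gs cs) {g : ↥P} (hg : g ∈ gs) : enc 275 g.1 ∈ cs := by
  induction h with
  | nil => exact absurd hg List.not_mem_nil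
  | cons hd _ ih =>
    rcases List.mem_cons.1 hg with rfl | hg'
    · rw [hd]; exact List.mem_cons_self
    · exact List.mem_cons_of_mem _ (ih hg')

/-- the generators of the Sylow 2-subgroup -/
noncomputable def gS : List ↥P := (idxS.map fun i => reg slpS i).reverse

theorem gS_ok : RegsOK P gS cS := by
  have h := chk_S
  rw [runK_eq] at h
  have h' : cS = (idxS.map fun i => (run 275 slpS [cbi, cb, cai, ca]).getD i (pone 275)).reverse := by
    rw [h, List.reverse_reverse]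
  rw [gS, h', RegsOK, List.forall₂_reverse_iff, List.forall₂_map_left_iff, List.forall₂_map_right_iff]
  exact List.forall₂_same.2 fun i _ => enc_reg slpS i

/-- the Sylow 2-subgroup -/
noncomputable def S2 : Subgroup ↥P := Subgroup.closure {g | g ∈ gS}

theorem run_length (n : ℕ) : ∀ (is : List (ℕ × ℕ)) (cs : List ℕ), (run n is cs).length = is.length + cs.length
  | [], cs => by simp [run]
  | ij :: is, cs => by
    rw [run_cons, run_length n is, List.length_cons, List.length_cons]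
    omega

theorem syl_facts : Nat.card S2 = 2 ^ 7 ∧ ∀ e ∈ S2, qS (enc 275 e.1) = true := by
  have h := chk_syl
  rw [runK_eq] at h
  obtain ⟨h1, h2⟩ := sylOK_sound n_le gS_ok sylProg qS h
  refine ⟨?_, h2⟩
  rw [S2, h1, run_length, chk_sylz.1, chk_sylz.2]
  norm_num

theorem card_P' : Nat.card ↥P = 2 ^ 7 * 7016625 := by rw [card_P]; norm_num

theorem z1_sq : z1 ^ 2 = 1 := sq_of_code enc_zs.1 chk_invs.1
theorem z1_ne : z1 ≠ 1 := ne_one_of_code enc_zs.1 chk_invs.2.2.2.1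
theorem z2_sq : z2 ^ 2 = 1 := sq_of_code enc_zs.2.1 chk_invs.2.1
theorem z2_ne : z2 ≠ 1 := ne_one_of_code enc_zs.2.1 chk_invs.2.2.2.2.1
theorem z3_sq : z3 ^ 2 = 1 := sq_of_code enc_zs.2.2 chk_invs.2.2.1
theorem z3_ne : z3 ≠ 1 := ne_one_of_code enc_zs.2.2 chk_invs.2.2.2.2.2

theorem inv_in_forest (y : ↥P) (hy : y ^ 2 = 1) (hne : y ≠ 1) : InFL mclForest (enc 275 y.1) := by
  refine all_inv n_le enc_a enc_ai enc_b enc_bi closure_ab chk_all' S2 syl_facts.1 card_P' (by norm_num) ?_ y hy hne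
  intro e he h1 h2
  exact qInv_sound n_le (syl_facts.2 e he) h1 h2

/-! ### the upper bound -/

theorem step1 (φ : MulAut ↥P) : InFL mclForest (enc 275 (φ z1).1) ∧ cond1 (enc 275 (φ z1).1) = true :=
  ⟨inv_in_forest _ (by rw [← map_pow, z1_sq, map_one])
    (fun h => z1_ne ((map_eq_one_iff φ φ.injective).1 h)), rfl⟩

theorem step2 (φ : MulAut ↥P) (f1 : φ z1 = z1) :
    InFL mclForest (enc 275 (φ z2).1) ∧ cond2 (enc 275 (φ z2).1) = true := by
  have hfix : RegsOK P [z1] [cz] := List.Forall₂.cons enc_zs.1 List.Forall₂.nil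
  obtain ⟨h1, h2⟩ := step_of_cond n_le inv_in_forest z2_sq z2_ne hfix φ (by simp [f1])
  refine ⟨h1, ?_⟩
  show condOf 275 slp2 ts2 [enc 275 (φ z2).1, cz] = true
  apply h2
  rw [enc_zs.2.1]; exact chk_cond2

theorem step3 (φ : MulAut ↥P) (f1 : φ z1 = z1) (f2 : φ z2 = z2) :
    InFL mclForest (enc 275 (φ z3).1) ∧ cond3 (enc 275 (φ z3).1) = true := by
  have hfix : RegsOK P [z2, z1] [c2, cz] :=
    List.Forall₂.cons enc_zs.2.1 (List.Forall₂.cons enc_zs.1 List.Forall₂.nil)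
  obtain ⟨h1, h2⟩ := step_of_cond n_le inv_in_forest z3_sq z3_ne hfix φ (by simp [f1, f2])
  refine ⟨h1, ?_⟩
  have hc := chk_cond3
  rw [cond3, Bool.and_eq_true, Bool.and_eq_true] at hc
  show (condOf 275 slpA tsA [enc 275 (φ z3).1, c2, cz] && (condOf 275 slpB tsB [enc 275 (φ z3).1, c2, cz] &&
    condOf 275 slpC tsC [enc 275 (φ z3).1, c2, cz])) = true
  rw [Bool.and_eq_true, Bool.and_eq_true]
  refine ⟨?_, ?_, ?_⟩
  · apply h2; rw [enc_zs.2.2]; exact hc.1
  · apply h2; rw [enc_zs.2.2]; exact hc.2.1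
  · apply h2; rw [enc_zs.2.2]; exact hc.2.2

theorem aut_trivial (φ : MulAut ↥P) (f1 : φ z1 = z1) (f2 : φ z2 = z2) (f3 : φ z3 = z3) : φ = 1 := by
  have h := chk_G
  rw [runK_eq] at h
  have e : idxG = [idxG.getD 0 0, idxG.getD 1 0] := by decide
  rw [e, List.map_cons, List.map_cons, List.map_nil] at h
  simp only [List.cons.injEq, and_true] at h
  refine aut_eq_one_of_slp n_le closure_ab slpG (idxG.getD 0 0) (idxG.getD 1 0) ?_ ?_ φ f1 f2 f3
  · rw [enc_zs.1, enc_zs.2.1, enc_zs.2.2, enc_a]; exact h.1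
  · rw [enc_zs.1, enc_zs.2.1, enc_zs.2.2, enc_b]; exact h.2

theorem card_aut_le : Nat.card (MulAut ↥P) ≤ 2 * 898128000 := by
  have := card_aut_le_of_steps n_le cond1 cond2 cond3 chk_n1 chk_n2 chk_n3 step1 step2 step3 aut_trivial
  norm_num at this ⊢
  exact this

/-! ### the outer automorphism -/

/-- the odd involution -/
noncomputable def tau : Equiv.Perm (Fin 275) := dec 275 ctau

theorem isCode_tau : IsCode 275 ctau := isCode_of_codeOK n_le chk_tau.1

theorem enc_tau : enc 275 tau = ctau := enc_dec isCode_tau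

theorem tau_sq : tau * tau = 1 := by
  apply enc_injective n_le
  rw [← pmul_enc n_le, enc_tau, chk_tau.2.1, pone_eq]

theorem tau_inv : tau⁻¹ = tau := inv_eq_of_mul_eq_one_left tau_sq

theorem isSimple_P : IsSimpleGroup ↥P := by
  have := isSimpleGroup_mclRef
  exact mclRefEquiv.symm.isSimpleGroup

theorem tau_not_mem : tau ∉ P := by
  intro h
  have h1 : (⟨tau, h⟩ : ↥P) ^ 2 = 1 := by
    rw [pow_two]; exact Subtype.ext tau_sq
  have h2 : (⟨tau, h⟩ : ↥P) ≠ 1 := by
    intro e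
    have := congrArg Subtype.val e
    have h3 : tau = 1 := this
    apply chk_tau.2.2
    rw [← enc_tau, h3, pone_eq]
  have h3 := inv_in_forest ⟨tau, h⟩ h1 h2
  rw [show ((⟨tau, h⟩ : ↥P) : Equiv.Perm (Fin 275)) = tau from rfl, enc_tau] at h3
  have h4 := allFL_sound chk_all h3
  rw [pcj, Bool.and_eq_true, Nat.beq_refl] at h4
  exact absurd h4.2 (by simp)

theorem chkT_facts :
    enc 275 (reg slpT 8).1 = pconj 275 ctau ctau ca ∧ enc 275 (reg slpT 4).1 = pconj 275 ctau ctau cb ∧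
    lk (enc 275 (reg slpT 2).1) 0 = 0 ∧ lk (enc 275 (reg slpT 0).1) 0 = 0 ∧
    ∀ i < 275, i = 0 ∨ lk (enc 275 (reg slpT 2).1) i ≠ i ∨ lk (enc 275 (reg slpT 0).1) i ≠ i := by
  have h := chk_T
  rw [runK_eq, Bool.and_eq_true, Bool.and_eq_true, Bool.and_eq_true, Bool.and_eq_true, allB_iff] at h
  obtain ⟨⟨⟨⟨h1, h2⟩, h3⟩, h4⟩, h5⟩ := h
  rw [enc_reg, enc_reg, enc_reg, enc_reg]
  have e1 := Nat.eq_of_beq_eq_true h1
  have e2 := Nat.eq_of_beq_eq_true h2
  have e3 := Nat.eq_of_beq_eq_true h3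
  have e4 := Nat.eq_of_beq_eq_true h4
  refine ⟨e1, e2, e3, e4, fun i hi => ?_⟩
  have := h5 i hi
  rw [Bool.or_eq_true, Bool.or_eq_true] at this
  rcases this with (h | h) | h
  · exact Or.inl (Nat.eq_of_beq_eq_true h)
  · right; left
    intro he
    rw [he, Nat.beq_refl] at h
    exact absurd h (by simp)
  · right; right
    intro he
    rw [he, Nat.beq_refl] at h
    exact absurd h (by simp)

theorem tau_conj_gA : tau * gA * tau⁻¹ ∈ P := by
  have h := chkT_facts.1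
  have e : pconj 275 ctau ctau ca = enc 275 (tau * gA * tau⁻¹) := by
    rw [← pconj_enc n_le, tau_inv, enc_tau, enc_gA]
  rw [e] at h
  rw [← enc_injective n_le h]
  exact (reg slpT 8).2

theorem tau_conj_gB : tau * gB * tau⁻¹ ∈ P := by
  have h := chkT_facts.2.1
  have e : pconj 275 ctau ctau cb = enc 275 (tau * gB * tau⁻¹) := by
    rw [← pconj_enc n_le, tau_inv, enc_tau, enc_gB]
  rw [e] at h
  rw [← enc_injective n_le h]
  exact (reg slpT 4).2

theorem tau_normalises : ∀ x ∈ P, tau * x * tau⁻¹ ∈ P :=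
  conj_mem_of_gens rfl tau_conj_gA tau_conj_gB

theorem P_transitive (k : Fin 275) : ∃ σ ∈ P, σ 0 = k := by
  obtain ⟨g, hg, hgk⟩ := mclRef_transitive' (pt_mem 0) (pt_mem k)
  refine ⟨rho ⟨g, hg⟩, ?_, ?_⟩
  · rw [P_eq]; exact ⟨_, rfl⟩
  · apply pt_injective
    rw [pt_rho]
    exact hgk

theorem cent_P (c : Equiv.Perm (Fin 275)) (hc : ∀ x ∈ P, c * x = x * c) : c = 1 := by
  obtain ⟨-, -, h3, h4, h5⟩ := chkT_facts
  refine cent_trivial 0 P_transitive [(reg slpT 2).1, (reg slpT 0).1] ?_ ?_ c hc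
  · intro x hx
    simp only [List.mem_cons, List.not_mem_nil, or_false] at hx
    rcases hx with rfl | rfl
    · refine ⟨(reg slpT 2).2, Fin.ext ?_⟩
      rw [← lk_enc_fin n_le]; exact h3
    · refine ⟨(reg slpT 0).2, Fin.ext ?_⟩
      rw [← lk_enc_fin n_le]; exact h4
  · intro k hk
    have h1 := hk (reg slpT 2).1 List.mem_cons_self
    have h2 := hk (reg slpT 0).1 (List.mem_cons_of_mem _ List.mem_cons_self)
    rcases h5 k.1 k.2 with h | h | h
    · exact Fin.ext h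
    · exfalso; apply h
      rw [lk_enc_fin n_le, h1]
    · exfalso; apply h
      rw [lk_enc_fin n_le, h2]

theorem exists_outer_P : ∃ α : MulAut ↥P, ∀ g : ↥P, α ≠ MulAut.conj g :=
  exists_outer tau tau_sq tau_normalises tau_not_mem cent_P

theorem center_P : Subgroup.center ↥P = ⊥ := by
  rw [eq_bot_iff]
  intro c hc
  rw [Subgroup.mem_bot]
  apply Subtype.ext
  apply cent_P
  intro x hx
  have := Subgroup.mem_center_iff.1 hc ⟨x, hx⟩
  exact (congrArg Subtype.val this).symm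

/-- the outer automorphism group of the permutation group has order 2 -/
theorem card_out_P : Nat.card (Cfsg.Out ↥P) = 2 :=
  card_out_eq_two center_P card_P card_aut_le exists_outer_P

/-- **The outer automorphism group of the McLaughlin group has order 2.** -/
theorem card_out_McL : Nat.card (Cfsg.Out ↥Cfsg.Spor.McL) = 2 := by
  rw [Cfsg.Agent.Lib.Helper6.OutGeneric.card_out_congr mclEquiv]
  exact card_out_P

end Cfsg.Agent.McLP
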