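import Cfsg.Agent.Lib.Lead.McL.Data

set_option autoImplicit false
set_option maxRecDepth 100000

namespace Cfsg.Agent.McLP

open Cfsg Cfsg.Agent.Lib.Helper6.Leech Cfsg.Agent.Lib.Helper6.Golay Cfsg.Agent.PG

/-! # The McLaughlin group on 275 points: kernel checks -/

/-- the word of the first generator -/
def wA : List Prim := mclGens.getD 0 []
/-- the word of the second generator -/
def wB : List Prim := mclGens.getD 3 []

theorem chk_pts : (ptsL.all fun x => inLeechL x && (normL x == 32) && (dotL u0L x == 24) && (dotL v0L x == 16)
    && (x.length == 24)) = true := by decide +kernel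

theorem chk_len : ptsL.length = 275 := by decide +kernel

theorem chk_nodup : ptsL.Nodup := by decide +kernel

theorem chk_codes : codeOK 275 ca cai = true ∧ codeOK 275 cb cbi = true ∧ pinv 275 ca = cai ∧ pinv 275 cb = cbi ∧
    lk ca 1 ≠ 1 := by decide +kernel

theorem chk_actA : ((List.range 275).all fun i => actW wA (ptsL.getD i []) == ptsL.getD (lk ca i) []) = true := by
  decide +kernel

theorem chk_actB : ((List.range 275).all fun i => actW wB (ptsL.getD i []) == ptsL.getD (lk cb i) []) = true := by
  decide +kernel

theorem chk_chain : runK 275 chainProg [cbi, cb, cai, ca] (fun regs =>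
    chainOK 275 [] chainBase (chainIdx.map fun l => l.map fun i => regs.getD i (pone 275))) = true := by
  decide +kernel

theorem chk_prod : (chainIdx.map List.length).prod = 898128000 := by decide +kernel

end Cfsg.Agent.McLP
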